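import Cfsg.Agent.Lib.Cert.J3.Y

set_option autoImplicit false
set_option maxRecDepth 100000

namespace Cfsg.Agent.Ct.J3

open Cfsg.Agent.PC Cfsg.Agent.Fi Cfsg.Agent.Ct Cfsg.Spor Subgroup Matrix

def e9 : F9 ≃ Fin 9 := (finProdFinEquiv : Fin 3 × Fin 3 ≃ Fin (3 * 3))

theorem hU : ∀ j < 43, (reindex e9 e9 (M (7 + j)))ᵀ * (reindex e9 e9 (M (7 + j))).map (· ^ 2) = 1 := by decide +kernel

theorem su : ∃ K : Subgroup (SU 9 K4 2), Nonempty (H (RingHom.id K4) ≃* K) := by
  let ρ : GL F9 K4 →* GL (Fin 9) K4 := Units.map (reindexAlgEquiv K4 K4 e9).toMonoidHom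
  have i : Function.Injective ρ := Units.map_injective (reindexAlgEquiv K4 K4 e9).injective
  have l : H (RingHom.id K4) ≤ (GUn 9 K4 2).comap ρ := (closure_le _).mpr fun u hu => by
    obtain ⟨j, hj, e⟩ := memg _ hu
    exact mem_U (f := RingHom.id K4) Nat.prime_two (by decide +kernel) (hU j hj) _ (congrArg (reindex e9 e9) e)
  let κ : H (RingHom.id K4) →* GUn 9 K4 2 := (ρ.comp (H _).subtype).codRestrict _ fun x => l x.2
  have i2 : Function.Injective κ := fun a b e => Subtype.ext (i (congrArg Subtype.val e))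
  have pf : _root_.commutator (H (RingHom.id K4)) = ⊤ := by
    obtain ⟨e⟩ := iso' (RingHom.id K4)
    obtain ⟨x, h1, h2, h3⟩ := cz (RingHom.id K4)
    have z : center _ ≤ _root_.commutator (H (RingHom.id K4)) := by
      rw [← eq_of_le_of_card_ge (zpowers_le.mpr h1) (by rw [cardZ _ rfl, Nat.card_zpowers, h3])]
      exact zpowers_le.mpr h2
    have t := range_le ctr e.toMonoidHom
    rw [MonoidHom.range_eq_top.mpr e.surjective, _root_.commutator_def, ← map_top_of_surjective _ (QuotientGroup.mk'_surjective _),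
      ← map_commutator, map_le_iff_le_comap, comap_map_eq, QuotientGroup.ker_mk'] at t
    exact eq_top_iff.mpr (t.trans (sup_le le_rfl z))
  have r : κ.range ≤ (suU 9 K4 2).range := by
    rw [MonoidHom.range_eq_map, ← pf, map_commutator_eq]
    exact (commutator_mono le_top le_top).trans le_su
  exact ⟨κ.range.comap (suU 9 K4 2), ⟨(MonoidHom.ofInjective i2).trans
    (((equivMapOfInjective _ _ suU_inj).trans (MulEquiv.subgroupCongr (map_comap_eq_self r))).symm)⟩⟩

end Cfsg.Agent.Ct.J3
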