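import Cfsg.Agent.Lib.Cert.J3.X

set_option autoImplicit false
set_option maxRecDepth 100000

namespace Cfsg.Agent.Ct.J3

open Cfsg.Agent.PC Cfsg.Agent.Fi Cfsg.Agent.Ct Cfsg.Spor Subgroup Matrix commutatorElement

variable {F : Type*} [Field F] {ω : F}

theorem exf [Fintype F] (hF : Fintype.card F = 4) (hω : ω ^ 2 + ω + 1 = 0) : ∃ f : K4 →+* F, f (kel 2) = ω := by
  obtain ⟨f⟩ := exK (K := K4) rfl hF
  have := Fact.mk Nat.prime_two
  have : CharP K4 2 := (CharP.charP_iff_prime_eq_zero Nat.prime_two).2 (by decide +kernel)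
  have h1 := congrArg f (by decide +kernel : (kel 2 : K4) ^ 2 + kel 2 + 1 = 0)
  rw [map_add, map_add, map_pow, map_one, map_zero] at h1
  rcases mul_eq_zero.mp (show (ω - f (kel 2)) * (ω - f (kel 2) ^ 2) = 0 by linear_combination hω + (f (kel 2) - 1 - ω) * h1) with h | h
  · exact ⟨f, (sub_eq_zero.mp h).symm⟩
  · exact ⟨f.comp (frobenius K4 2), by rw [sub_eq_zero.mp h, ← map_pow]; rfl⟩

theorem m5 : M 5 0 0 ^ 3 = 1 ∧ 1 ≠ M 5 0 0 := by decide +kernel

variable (f : K4 →+* F)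

theorem mA (Z : F9) : (j3A K4 (kel 2) Z).map f = j3A F (f (kel 2)) Z := by
  rw [j3A, diagonal_map (map_zero f)]; simp [j3A, omegaPow]
theorem mE (Z : F9) : (j3E K4 (kel 2) Z).map f = j3E F (f (kel 2)) Z := by
  rw [j3E, diagonal_map (map_zero f)]; simp [j3E, omegaPow]
theorem mD (Z : F9) : (j3D K4 (kel 2) Z).map f = j3D F (f (kel 2)) Z := by ext; simp [j3D, j3Lam, apply_ite f]
theorem mB (Z : F9) : (j3B K4 Z).map f = j3B F Z := by ext; simp [j3B, apply_ite f]
theorem mC (Z : F9) : (j3C K4 Z).map f = j3C F Z := by ext; simp only [j3C, map_apply, of_apply, apply_ite f, map_one, map_zero]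

theorem gmem (j : ℕ) (hj : j < 43) : (M (7 + j)).map f ∈ j3Gens F (f (kel 2)) := by
  obtain ⟨Z, h | h | h | h | h⟩ := (by decide +kernel : ∀ j < 43, ∃ Z : F9, j = ix Z ∨ j = 9 + ix Z ∨ j = 18 + ix Z ∨
    (Z ≠ 0 ∧ j = 26 + ix Z) ∨ (Z ≠ 0 ∧ j = 34 + ix Z)) j hj
  · exact .inl (.inl (.inl (.inl ⟨Z, by rw [h, hA, mA]⟩)))
  · exact .inl (.inl (.inl (.inr ⟨Z, by rw [h, hE, mE]⟩)))
  · exact .inl (.inl (.inr ⟨Z, by rw [h, hD, mD]⟩))
  · exact .inl (.inr ⟨Z, h.1, by rw [h.2, hB Z h.1, mB]⟩)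
  · exact .inr ⟨Z, h.1, by rw [h.2, hC Z h.1, mC]⟩

theorem memg {A : Matrix F9 F9 F} (h : A ∈ j3Gens F (f (kel 2))) : ∃ j < 43, A = (M (7 + j)).map f := by
  have l : ∀ Z, ix Z < 9 := by decide +kernel
  rcases h with (((⟨Z, rfl⟩ | ⟨Z, rfl⟩) | ⟨Z, rfl⟩) | ⟨Z, h, rfl⟩) | ⟨Z, h, rfl⟩ <;> have := l Z
  · exact ⟨ix Z, by omega, by rw [hA, mA]⟩
  · exact ⟨9 + ix Z, by omega, by rw [hE, mE]⟩
  · exact ⟨18 + ix Z, by omega, by rw [hD, mD]⟩
  · exact ⟨26 + ix Z, by omega, by rw [hB Z h, mB]⟩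
  · exact ⟨34 + ix Z, by omega, by rw [hC Z h, mC]⟩

abbrev H : Subgroup (GL F9 F) := threeJ3 F (f (kel 2))

noncomputable def h (j : ℕ) : H f := ev (fun i => PC.sub (H f) (uL f M nv) (7 + i)) (Wx j)

theorem hh : ∀ j < 4, mat (H f) (h f j) = (M j).map f :=
  lm.wds _ hu hx fun j hj _ e => subset_closure (show _ ∈ j3Gens _ _ from e ▸ gmem f j hj)

theorem exg (j : ℕ) (hj : j < 43) : ∃ y : H f, mat _ y = (M (7 + j)).map f :=
  have t := lm.uL f (lin_zero hu j hj)
  ⟨⟨_, subset_closure (show _ ∈ j3Gens _ _ from t ▸ gmem f j hj)⟩, t⟩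

theorem iso' [Finite F] : Nonempty (P ≃* J3 F (f (kel 2))) := by
  have t := lm.cen (mat_inj _) (hh f) 0 hsc ws hw
  have k : ∀ w ∈ ws.map Prod.fst, ev (fun j => QuotientGroup.mk' (center (H f)) (h f j)) w = 1 := fun w hw =>
    (ev_map _ _ _).symm.trans ((QuotientGroup.eq_one_iff _).mpr (t w hw))
  exact ⟨(pq.iso (fun j hj => k _ ((by decide +kernel : ∀ j < 4, [j, j] ∈ ws.map Prod.fst) j hj))
    (fun w hw => k _ ((by decide +kernel : ∀ w ∈ rels, w ∈ ws.map Prod.fst) w hw))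
    (lm.topZ (hh f) rfl 0 hsc hv fun _ hu => memg f hu) (j := 1) (by decide)
    fun e => ncen (hh f 0 (by decide)) (hh f 1 (by decide)) _ _ hn ((QuotientGroup.eq_one_iff _).mp e)).choose⟩

theorem scal {z : H f} (hz : z ∈ center (H f)) : mat _ z = scalar _ (mat _ z 0 0) := by
  have l : ∀ Z, ix Z < 9 := by decide +kernel
  have c : ∀ j < 43, (M (7 + j)).map f * mat _ z = mat _ z * (M (7 + j)).map f := fun j hj => by
    obtain ⟨y, hy⟩ := exg f j hj
    rw [← hy, ← map_mul, ← map_mul, mem_center_iff.mp hz]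
  have h1 : ∀ w v, w ≠ v → mat _ z w v = 0 := fun w v e => by
    obtain ⟨Z, hZ⟩ := (by decide +kernel : ∀ w v : F9, w ≠ v → ∃ Z : F9,
      omegaPow K4 (kel 2) (Z.1 * w.1 + Z.2 * w.2) ≠ omegaPow K4 (kel 2) (Z.1 * v.1 + Z.2 * v.2)) w v e
    have := congrFun (congrFun (c (ix Z) (by have := l Z; omega)) w) v
    rw [hA, j3A, diagonal_map (map_zero f), diagonal_mul, mul_diagonal, mul_comm] at this
    by_contra s
    exact hZ (f.injective (mul_left_cancel₀ s this))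
  ext w v
  by_cases e : w = v
  · subst e
    have := congrFun (congrFun (c (18 + ix w) (by have := l w; omega)) w) 0
    rw [hD, mD, mul_apply, mul_apply, Finset.sum_eq_single 0 (fun b _ hb => by rw [h1 _ _ hb, mul_zero]) (by simp),
      Finset.sum_eq_single w (fun b _ hb => by rw [h1 _ _ hb.symm, zero_mul]) (by simp)] at this
    simpa [j3D, j3Lam] using this.symm
  · rw [h1 _ _ e, scalar_apply, diagonal_apply_ne _ e]

theorem cz : ∃ x ∈ center (H f), x ∈ commutator (H f) ∧ orderOf x = 3 := by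
  have := Fact.mk Nat.prime_three
  have a : ∀ w, lettE 4 w = 0 → mat _ (ev (h f) w) = (evM M w).map f := fun w hw =>
    evM_hom (mat _) (f.mapMatrix (m := F9)).toMonoidHom fun j hj => hh f j (lettE_zero hw j hj)
  have b := congrArg (fun A : Matrix F9 F9 K4 => A.map f) (lm.eq hcm)
  simp only [evM, Matrix.map_mul] at b
  rw [← a _ (by decide +kernel), ← a _ (by decide +kernel), ev_append, ev_append, hsc 5 (by decide) (by decide), scalar_apply,
    diagonal_map (map_zero f)] at b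
  have c : mat _ ⁅(ev (h f) cu)⁻¹, (ev (h f) cv)⁻¹⁆ = scalar F9 (f (M 5 0 0)) := by
    rw [commutatorElement_def, inv_inv, inv_inv, mul_assoc, map_mul, b, ← mul_assoc, ← map_mul, ← _root_.mul_inv_rev, inv_mul_cancel, map_one, one_mul]
    rfl
  refine ⟨⁅(ev (h f) cu)⁻¹, (ev (h f) cv)⁻¹⁆, mem_center_iff.mpr fun y => mat_inj _ ?_, commutator_mem_commutator (mem_top _) (mem_top _),
    orderOf_eq_prime (mat_inj _ ?_) fun e => ?_⟩
  · rw [map_mul, map_mul, c]; exact ((scalar_commute _ (fun _ => Commute.all _ _) _).eq).symm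
  · rw [map_pow, c, ← map_pow, ← map_pow, m5.1, map_one, map_one, map_one]
  · rw [e, map_one] at c
    have := congrFun (congrFun c 0) 0
    rw [one_apply_eq, scalar_apply, diagonal_apply_eq, ← map_one f] at this
    exact m5.2 (f.injective this)

theorem cardZ [Fintype F] (hF : Fintype.card F = 4) : Nat.card (center (H f)) = 3 := by
  classical
  obtain ⟨x, h1, -, h2⟩ := cz f
  refine le_antisymm ?_ (Nat.le_of_dvd Nat.card_pos (h2.symm.dvd.trans (Subgroup.orderOf_dvd_natCard _ h1)))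
  have : ∀ z : center (H f), mat _ z.1 0 0 ≠ 0 := fun z e => by
    have := congrFun (congrFun (congrArg (mat _) (mul_inv_cancel z.1)) 0) 0
    rw [map_mul, scal f z.2, e] at this
    simp at this
  refine (Nat.card_le_card_of_injective (fun z => Units.mk0 _ (this z)) fun a b e => Subtype.ext (mat_inj _ ?_)).trans ?_
  · rw [scal f a.2, scal f b.2, show mat _ a.1 0 0 = mat _ b.1 0 0 from congrArg Units.val e]
  · rw [Nat.card_eq_fintype_card, Fintype.card_units, hF]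

theorem lok : LoK P 3 := by
  obtain ⟨e⟩ := iso' (RingHom.id K4)
  obtain ⟨x, h1, h2, h3⟩ := cz (RingHom.id K4)
  have k : (e.symm.toMonoidHom.comp (QuotientGroup.mk' _)).ker = center _ :=
    (MonoidHom.ker_comp_of_injective _ _ e.symm.injective).trans (QuotientGroup.ker_mk' _)
  exact lok_of (ξ := e.symm.toMonoidHom.comp (QuotientGroup.mk' _)) ⟨e.symm.surjective.comp (QuotientGroup.mk'_surjective _), k.le⟩
    ⟨k.ge h1, h2⟩ h3.symm.dvd

theorem iso [Fintype F] (hF : Fintype.card F = 4) (hω : ω ^ 2 + ω + 1 = 0) : Nonempty (P ≃* J3 F ω) := by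
  obtain ⟨f, rfl⟩ := exf hF hω
  exact iso' f

end Cfsg.Agent.Ct.J3
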